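import Cfsg.Agent.H115.Tits.StmtsB
import Cfsg.Agent.H263.TW.Chain
import Cfsg.Agent.H592.E4.Main

/-!
# S3414, case (B), `t = 4` (helper592)
-/

set_option autoImplicit false

namespace Cfsg.Agent.H592.T4

open Subgroup Cfsg.Agent.H873.Tits Cfsg.Agent.H115.Tits Cfsg.Agent.H263.TW

universe u v

variable {G : Type u} [Group G] {V : Type v} [MulAction G V]

theorem T2_dvd [Finite G] {P : Pol G V} (F : Facts P) {x y z : V} (hx : P.adj y x) (hz : P.adj y z) (hxz : x ≠ z)
    (ht : P.q (P.tp y) = 4) : P.T2 y x z ∣ 6 := by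
  have hfin := finite_nb P y
  have h1 := Cfsg.Agent.H592.E4.card_twoTr (Cfsg.Agent.H592.E4.twoTr_L F y) (a := ⟨x, hx⟩) (b := ⟨z, hz⟩)
    (fun h => hxz (congrArg Subtype.val h))
  rw [← Cfsg.Agent.H592.E4.T2_eq hx hz, P.card_nb, ht] at h1
  have h2 := Subgroup.card_subgroup_dvd_card (P.L y)
  rw [h1, Nat.card_perm, P.card_nb, ht, show Nat.factorial (4 + 1) = 120 from rfl] at h2
  norm_num at h2
  have h3 : 20 * P.T2 y x z ∣ 20 * 6 := by
    rw [show 20 * P.T2 y x z = 5 * (4 * P.T2 y x z) by ring]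
    exact h2
  exact Nat.dvd_of_mul_dvd_mul_left (by norm_num) h3

theorem num_aux {i E d s m : ℕ} (hm : 2 ≤ m) (h1 : i * (E * d) = 4 ^ (m - 1) * s ^ m) (hd : d ∣ s)
    (hE : E ∣ 4 ^ (m - 1) * s ^ (m - 2)) (hs : 0 < s) :
    ∃ e j, E * e = 4 ^ (m - 1) * s ^ (m - 2) ∧ s = d * j ∧ i = e * s * j := by
  obtain ⟨e, he⟩ := hE
  obtain ⟨j, hj⟩ := hd
  refine ⟨e, j, he.symm, hj, ?_⟩
  have h0 : 0 < E * e := by rw [← he]; positivity
  have hE0 : 0 < E := Nat.pos_of_mul_pos_right h0 |> fun h => by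
    rcases Nat.eq_zero_or_pos E with h' | h'
    · simp [h'] at h0
    · exact h'
  have hd0 : 0 < d := by
    rcases Nat.eq_zero_or_pos d with h' | h'
    · simp [h'] at hj; omega
    · exact h'
  have h2 : s ^ m = s ^ (m - 2) * (s * s) := by
    rw [← pow_two, ← pow_add]
    congr 1
    omega
  rw [h2, ← mul_assoc (4 ^ (m - 1)), he] at h1
  have h3 : E * (d * i) = E * (d * (e * s * j)) := by
    calc E * (d * i) = i * (E * d) := by ring
      _ = E * e * (s * s) := h1
      _ = E * e * (s * (d * j)) := by rw [← hj]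
      _ = _ := by ring
  exact Nat.eq_of_mul_eq_mul_left hd0 (Nat.eq_of_mul_eq_mul_left hE0 h3)

theorem EB_inf {P : Pol G V} (F : Facts P) (hn : P.n = 4) {x w w' : V} (hw : P.adj x w) (hw' : P.adj x w') (hne : w ≠ w') :
    EB P w ⊓ EB P w' = ⊥ := by
  obtain ⟨p, hp, h1, h2, h3⟩ := F.extend3 (P.symm hw) hw' hne
  have h := J_eq_bot F hp
  rw [hn] at h
  have h4 : J P p 1 1 = EB P (p 1) ⊓ EB P (p 3) := rfl
  rw [show 4 / 2 - 1 = 1 from rfl, h4, h1, h3] at h
  exact h

theorem EB_comm {P : Pol G V} (F : Facts P) (hn : P.n = 4) {x w w' : V} (hw : P.adj x w) (hw' : P.adj x w') (hne : w ≠ w')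
    {a c : G} (ha : a ∈ EB P w) (hc : c ∈ EB P w') : a * c = c * a := by
  have ha' : a ∈ P.S w' := K_le_S_nb hw' (EB_le_K_nb (P.symm hw) ha)
  have hc' : c ∈ P.S w := K_le_S_nb hw (EB_le_K_nb (P.symm hw') hc)
  have h1 : a * c * a⁻¹ * c⁻¹ ∈ EB P w ⊓ EB P w' := by
    refine mem_inf.2 ⟨?_, ?_⟩
    · have h2 := conj_mem_EB hc' (inv_mem ha)
      have h3 := mul_mem ha h2
      rwa [show a * (c * a⁻¹ * c⁻¹) = a * c * a⁻¹ * c⁻¹ by group] at h3
    · exact mul_mem (conj_mem_EB ha' hc) (inv_mem hc)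
  rw [EB_inf F hn hw hw' hne, mem_bot] at h1
  have h2 : a * c = c * a := by
    calc a * c = (a * c * a⁻¹ * c⁻¹) * (c * a) := by group
      _ = c * a := by rw [h1, one_mul]
  exact h2

theorem card_ne_one {A : Type u} [Group A] [Finite A] {n : ℕ} (h : Nat.card A = n + 1) : Nat.card {a : A // a ≠ 1} = n := by
  have h1 : Nat.card ({1}ᶜ : Set A) = n := by
    rw [Nat.card_coe_set_eq, Set.ncard_compl, Set.ncard_singleton, h]
    rfl
  exact h1

theorem contra [Finite G] {P : Pol G V} (F : Facts P) {b : Bool} (hB : CaseB P b) {x y : V} (hy : P.tp y = b)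
    (hx : P.adj y x) (hn : P.n = 4) (ht : P.q b = 4) (hs : P.q (!b) = 6) (hE : Nat.card (EB P y) = 4) : False := by
  classical
  have hxy := P.symm hx
  have hfx := finite_nb P x
  have hfy := finite_nb P y
  have hcx : Nat.card {w : V // P.adj x w} = 7 := by rw [P.card_nb, P.tp_adj hx, hy, hs]
  have hcy : Nat.card {w : V // P.adj y w} = 5 := by rw [P.card_nb, hy, ht]
  -- all the groups have order 4
  have hEw : ∀ w, P.adj x w → Nat.card (EB P w) = 4 := by
    intro w hw
    obtain ⟨g, hg, hgw⟩ := trans_nb F hxy hw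
    rw [← hgw, EB_smul, ← hE]
    exact (Nat.card_congr ((EB P y).equivMapOfInjective _ (MulAut.conj g).injective).toEquiv).symm
  -- two further neighbours
  obtain ⟨w, hw, hwy⟩ : ∃ w, P.adj x w ∧ w ≠ y := by
    by_contra h
    push Not at h
    have : Nat.card {w : V // P.adj x w} ≤ 1 := by
      rw [Finite.card_le_one_iff_subsingleton]
      exact ⟨fun a c => Subtype.ext ((h a a.2).trans (h c c.2).symm)⟩
    omega
  obtain ⟨u0, hu0, hux⟩ : ∃ u, P.adj y u ∧ u ≠ x := by
    by_contra h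
    push Not at h
    have : Nat.card {w : V // P.adj y w} ≤ 1 := by
      rw [Finite.card_le_one_iff_subsingleton]
      exact ⟨fun a c => Subtype.ext ((h a a.2).trans (h c c.2).symm)⟩
    omega
  have hsemi : ∀ g ∈ EB P w, ∀ u, P.adj y u → u ≠ x → g • u = u → g = 1 := by
    intro g hg u hu hne hgu
    obtain ⟨p, hp, h1, h2, h3⟩ := F.extend3 hx hw hwy.symm
    refine J_semireg F hp (g := g) ?_ (u := u) (by rw [h1]; exact hu) (by rw [h2]; exact hne) hgu
    rw [hn]
    show g ∈ EB P (p 3)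
    rw [h3]
    exact hg
  have hEx : ∀ v, P.adj x v → EB P v ≤ P.K x := fun v hv => EB_le_K_nb (P.symm hv)
  have hmv : ∀ g ∈ P.K x, ∀ u, P.adj y u → u ≠ x → P.adj y (g • u) ∧ g • u ≠ x := by
    intro g hg u hu hne
    have hgy : g • y = y := hg.2 y hxy
    refine ⟨?_, fun h => hne ?_⟩
    · have := P.smul_adj g hu
      rwa [hgy] at this
    · have hgx : g • x = x := hg.1
      rw [← hgx] at h
      exact smul_left_cancel g h
  -- `EB w` is regular on the four neighbours of `y` different from `x`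
  have hreg : ∀ u, P.adj y u → u ≠ x → ∃ h ∈ EB P w, h • u0 = u := by
    let f : EB P w → {u : {u : V // P.adj y u} // u ≠ ⟨x, hx⟩} := fun g =>
      ⟨⟨(g : G) • u0, (hmv g (hEx w hw g.2) u0 hu0 hux).1⟩, fun h =>
        (hmv g (hEx w hw g.2) u0 hu0 hux).2 (congrArg Subtype.val h)⟩
    have hf : Function.Injective f := by
      rintro ⟨g, hg⟩ ⟨g', hg'⟩ h
      have h1 : g • u0 = g' • u0 := congrArg Subtype.val (congrArg Subtype.val h)
      have h2 : (g'⁻¹ * g) • u0 = u0 := by rw [mul_smul, h1, inv_smul_smul]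
      have h3 := hsemi (g'⁻¹ * g) (mul_mem (inv_mem hg') hg) u0 hu0 hux h2
      exact Subtype.ext (inv_mul_eq_one.1 h3).symm
    have hcard : Nat.card {u : {u : V // P.adj y u} // u ≠ ⟨x, hx⟩} = 4 := by
      have h1 : Nat.card ({⟨x, hx⟩}ᶜ : Set {u : V // P.adj y u}) = 4 := by
        rw [Nat.card_coe_set_eq, Set.ncard_compl, Set.ncard_singleton, hcy]
      exact h1
    have hb : Function.Bijective f := by
      rw [Nat.bijective_iff_injective_and_card]
      exact ⟨hf, by rw [hcard, hEw w hw]⟩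
    intro u hu hne
    obtain ⟨g, hg⟩ := hb.2 ⟨⟨u, hu⟩, fun h => hne (congrArg Subtype.val h)⟩
    exact ⟨g, g.2, congrArg Subtype.val (congrArg Subtype.val hg)⟩
  have hab : ∀ a ∈ EB P w, ∀ c ∈ EB P w, a * c = c * a := by
    intro a ha c hc
    have h1 := IsPGroup.isMulCommutative_of_card_eq_prime_sq (p := 2) (G := EB P w) (by rw [hEw w hw]; rfl)
    exact congrArg Subtype.val (h1.1.1 (⟨a, ha⟩ : EB P w) ⟨c, hc⟩)
  -- all the groups are contained in `EB w * EB y`
  have hall : ∀ v, P.adj x v → ∀ g ∈ EB P v, ∃ q : EB P w × EB P y, (q.1 : G) * (q.2 : G) = g := by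
    intro v hv g hg
    by_cases hvy : v = y
    · subst hvy
      exact ⟨(1, ⟨g, hg⟩), by simp⟩
    by_cases hvw : v = w
    · subst hvw
      exact ⟨(⟨g, hg⟩, 1), by simp⟩
    obtain ⟨h1, h2⟩ := hmv g (hEx v hv hg) u0 hu0 hux
    obtain ⟨h, hh, hhu⟩ := hreg _ h1 h2
    refine ⟨(⟨h, hh⟩, ⟨h⁻¹ * g, ?_⟩), mul_inv_cancel_left _ _⟩
    rw [← EB_eq hB hy hxy]
    have hKx : h⁻¹ * g ∈ P.K x := mul_mem (inv_mem (hEx w hw hh)) (hEx v hv hg)
    refine ⟨hKx, hKx.2 y hxy, fun u hu => ?_⟩
    by_cases hux' : u = x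
    · subst hux'
      exact hKx.1
    · obtain ⟨k, hk, rfl⟩ := hreg u hu hux'
      have e1 : g * k = k * g := EB_comm F hn hv hw hvw hg hk
      have e2 : h * k = k * h := hab h hh k hk
      rw [mul_smul, inv_smul_eq_iff, ← mul_smul, e1, mul_smul, ← hhu, ← mul_smul, ← mul_smul, e2]
  choose! q hq using hall
  let A := Σ v : {v : V // P.adj x v}, {g : EB P v.1 // g ≠ 1}
  have hA : Nat.card A = 21 := by
    have : Fintype {v : V // P.adj x v} := Fintype.ofFinite _
    rw [Nat.card_sigma]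
    have h3 : ∀ v : {v : V // P.adj x v}, Nat.card {g : EB P v.1 // g ≠ 1} = 3 := fun v =>
      card_ne_one (hEw v.1 v.2)
    rw [Finset.sum_congr rfl (fun v _ => h3 v), Finset.sum_const, Finset.card_univ, ← Nat.card_eq_fintype_card, hcx]
    rfl
  let f : A → {a : EB P w × EB P y // a ≠ 1} := fun a => ⟨q a.1.1 a.2.1, by
    intro h
    have h1 := hq a.1.1 a.1.2 a.2.1 a.2.1.2
    rw [h] at h1
    have h2 : ((a.2.1 : EB P a.1.1) : G) = 1 := by
      rw [← h1]
      simp
    exact a.2.2 (Subtype.ext h2)⟩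
  have hf : Function.Injective f := by
    rintro ⟨⟨v, hv⟩, ⟨g, hg⟩, hg1⟩ ⟨⟨v', hv'⟩, ⟨g', hg'⟩, hg1'⟩ h
    have h1 : q v g = q v' g' := congrArg Subtype.val h
    have h2 : g = g' := by rw [← hq v hv g hg, ← hq v' hv' g' hg', h1]
    subst h2
    have h3 : v = v' := by
      by_contra hne
      have h4 : g ∈ EB P v ⊓ EB P v' := ⟨hg, hg'⟩
      rw [EB_inf F hn hv hv' hne, mem_bot] at h4
      exact hg1 (Subtype.ext h4)
    subst h3
    rfl
  have hle := Nat.card_le_card_of_injective f hf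
  have h15 : Nat.card {a : EB P w × EB P y // a ≠ 1} = 15 := card_ne_one (by rw [Nat.card_prod, hEw w hw, hE])
  omega

/-- the numerical part: `s = 2` -/
theorem two_of_dvd [Finite G] {P : Pol G V} (F : Facts P) (N : Num P) {b : Bool} (hB : CaseB P b) {x y y' : V}
    (hy : P.tp y = b) (hx : P.adj y x) (ho : P.Opp y y') (ht : P.q b = 4) (hidx6 : P.idx y y' ∣ 6) :
    P.q (!b) = 2 ∧ ¬ 3 ∣ P.idx y y' := by
  have hcount := caseB_idx F hB hy ho
  obtain ⟨w, hxw, hwy⟩ : ∃ w, P.adj x w ∧ w ≠ y := by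
    have hfx := finite_nb P x
    by_contra h
    push Not at h
    have h1 : Nat.card {w : V // P.adj x w} ≤ 1 := by
      rw [Finite.card_le_one_iff_subsingleton]
      exact ⟨fun a c => Subtype.ext ((h a a.2).trans (h c c.2).symm)⟩
    rw [P.card_nb] at h1
    have := P.two_le (P.tp x)
    omega
  obtain ⟨d, hd, hK⟩ := caseB_card_K F hB hy hx hxw hwy
  have hEd := F.caseB_card hB hy (P.symm hx)
  rw [EB_eq hB hy (P.symm hx)] at hEd
  rw [hK] at hcount
  rw [ht] at hcount hEd
  have hs2 : 2 ≤ P.q (!b) := P.two_le _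
  generalize hs : P.q (!b) = s at *
  have hm : 2 ≤ P.n / 2 := by rcases P.hn with h | h | h <;> rw [h] <;> norm_num
  obtain ⟨e, j, he, hj, hi⟩ := num_aux hm hcount hd hEd (by omega)
  have hs6 : s ∣ 6 := by
    refine Dvd.dvd.trans ?_ hidx6
    rw [hi]
    exact ⟨e * j, by ring⟩
  have hs' : s = 2 ∨ s = 3 ∨ s = 6 := by
    have h1 := Nat.le_of_dvd (by norm_num) hs6
    have h2 : ∀ k : ℕ, 2 ≤ k → k ≤ 6 → k ∣ 6 → k = 2 ∨ k = 3 ∨ k = 6 := by
      intro k h2 h3 h4
      interval_cases k <;> simp_all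
    exact h2 s hs2 h1 hs6
  have hprod : P.q true * P.q false = 4 * s := by
    cases b
    · rw [Bool.not_false] at hs
      rw [hs, ht, mul_comm]
    · rw [Bool.not_true] at hs
      rw [hs, ht]
  have hsum : P.q true + P.q false = 4 + s := by
    cases b
    · rw [Bool.not_false] at hs
      rw [hs, ht, add_comm]
    · rw [Bool.not_true] at hs
      rw [hs, ht]
  rcases hs' with h2 | h36
  · refine ⟨h2, ?_⟩
    intro h3
    have h4 : 3 ∣ e * (s * j) := by
      rw [hi] at h3
      rwa [mul_assoc] at h3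
    have h30 : Nat.Prime 3 := Nat.prime_three
    rcases (h30.dvd_mul).1 h4 with h5 | h5
    · have h6 : 3 ∣ 4 ^ (P.n / 2 - 1) * s ^ (P.n / 2 - 2) := he ▸ h5.mul_left _
      rcases (h30.dvd_mul).1 h6 with h7 | h7
      · have := h30.dvd_of_dvd_pow h7
        norm_num at this
      · have := h30.dvd_of_dvd_pow h7
        rw [h2] at this
        norm_num at this
    · rcases (h30.dvd_mul).1 h5 with h7 | h7
      · rw [h2] at h7
        norm_num at h7
      · have h8 : 3 ∣ s := hj ▸ h7.mul_left _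
        rw [h2] at h8
        norm_num at h8
  · exfalso
    rcases P.hn with hn | hn | hn
    · have h4 := N.fh4 hn
      rw [hsum] at h4
      have e1 : 2 * P.q true * P.q false * (1 + P.q true) * (1 + P.q false) = 2 * (4 * s) * (1 + (4 + s) + 4 * s) := by
        rw [← hprod, ← hsum]
        ring
      rw [e1] at h4
      rcases h36 with h3 | h3
      · rw [h3] at h4
        norm_num at h4
      · have hidx : e * s * j ∣ 6 := hi ▸ hidx6
        rw [h3] at hidx
        have h7 : e * j ∣ 1 := by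
          have h8 : 6 * (e * j) ∣ 6 * 1 := by
            rw [show 6 * (e * j) = e * 6 * j by ring]
            exact hidx
          exact Nat.dvd_of_mul_dvd_mul_left (by norm_num) h8
        have h9 : e = 1 := Nat.eq_one_of_mul_eq_one_right (Nat.dvd_one.1 h7)
        rw [h9, hn] at he
        norm_num at he
        exact contra F hB hy hx hn ht (hs.trans h3) he
    · obtain ⟨g, hg, -⟩ := N.fh6 hn
      rw [hprod] at hg
      have : g ≤ 5 := by
        by_contra h
        push Not at h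
        have : 36 ≤ g ^ 2 := by nlinarith
        rcases h36 with h3 | h3 <;> rw [h3] at hg <;> omega
      interval_cases g <;> rcases h36 with h3 | h3 <;> rw [h3] at hg <;> omega
    · obtain ⟨g, hg, -⟩ := N.fh8 hn
      rw [mul_assoc, hprod] at hg
      have : g ≤ 7 := by
        by_contra h
        push Not at h
        have : 64 ≤ g ^ 2 := by nlinarith
        rcases h36 with h3 | h3 <;> rw [h3] at hg <;> omega
      interval_cases g <;> rcases h36 with h3 | h3 <;> rw [h3] at hg <;> omega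

/-- **T4.** -/
theorem st_t4 : StT4.{u, v} := by
  intro G _ _ V _ _ P x y z y' C ht _
  have F := C.F
  have h6 := T2_dvd F C.hx C.hz C.xz ht
  obtain ⟨p, hp, hpe⟩ : ∃ p : ℕ → V, IsPath P.adj (P.n + 1) p ∧ p 0 = x ∧ p 1 = y ∧ p 2 = z := by
    obtain ⟨p, hp, hpe⟩ := F.extend (k := 2) (p := fun i => if i = 0 then x else if i = 1 then y else z)
      (by rcases P.hn with h | h | h <;> omega)
      ⟨fun i hi => by
        have : i = 0 ∨ i = 1 := by omega
        rcases this with rfl | rfl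
        · simpa using P.symm C.hx
        · simpa using C.hz, fun i hi => by
        obtain rfl : i = 0 := by omega
        simpa using C.xz.symm⟩
    exact ⟨p, hp, by simpa using hpe 0 (by omega), by simpa using hpe 1 (by omega), by simpa using hpe 2 (by omega)⟩
  obtain ⟨hp0, hp1, hp2⟩ := hpe
  have hT := caseB_T2 F C.B hp (by rw [hp1]) (y' := y') (by rw [hp1]; exact C.opp)
  rw [hp0, hp1, hp2] at hT
  have hidx6 : P.idx y y' ∣ 6 := (Dvd.intro _ hT.symm).trans h6
  have hs := (two_of_dvd F C.N C.B rfl C.hx C.opp ht hidx6).1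
  refine ⟨Nat.prime_two, fun c => ?_⟩
  by_cases hc : c = P.tp y
  · rw [hc, ht]
    exact ⟨2, rfl⟩
  · have : c = !P.tp y := by
      cases c <;> cases h : P.tp y <;> simp_all
    rw [this, hs]
    exact ⟨1, rfl⟩

end Cfsg.Agent.H592.T4
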