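import Cfsg.Agent.H506.Tits.StmtsB
import Cfsg.Agent.H592.Tits.T4

/-!
# S3414, case (B): `S_5 > 5:4` (helper592)
-/

set_option autoImplicit false

namespace Cfsg.Agent.H592.T4

open Subgroup Cfsg.Agent.H873.Tits Cfsg.Agent.H506.Tits Cfsg.Agent.H263.TW

universe u v

/-- **BS5.** -/
theorem st_bs5 : StBS5.{u, v} := by
  intro G _ _ V _ _ P F N b hB y y' hy ho ht hL hL'
  have h1 : P.idx y y' = 6 := by
    have h2 : Nat.card ↥(P.L' y y') * (P.L' y y').relIndex (P.L y) = Nat.card ↥(P.L y) :=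
      Cfsg.Agent.H592.E4.card_mul_rel Cfsg.Agent.H592.E4.L'_le_L
    rw [hL, hL'] at h2
    show (P.L' y y').relIndex (P.L y) = 6
    omega
  obtain ⟨x, hx⟩ : ∃ x, P.adj y x := by
    have hfin := finite_nb P y
    have h3 : Nat.card {w : V // P.adj y w} ≠ 0 := by rw [P.card_nb]; omega
    obtain ⟨⟨x⟩, -⟩ := Nat.card_ne_zero.1 h3
    exact ⟨x.1, x.2⟩
  have h3 := (two_of_dvd F N hB hy hx ho ht (by rw [h1])).2
  rw [h1] at h3
  exact h3 (by norm_num)

end Cfsg.Agent.H592.T4
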